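import Cfsg.Agent.Base
import Cfsg.Agent.Lib.Ree2.Theta

/-!
# Janko-Ree type with field automorphisms: the abstract local data

`C(w) = (⟨w⟩ × PSL₂(q)) . m` with `m` odd; `C0 w = ⟨w⟩ × PSL₂(q)` is generated by the involutions of `C(w)`.
-/

set_option autoImplicit false

namespace H44.JF

open Subgroup H29 H68 Cfsg H2.JR

variable {G : Type*} [Group G]

/-- The subgroup generated by the involutions commuting with `w`. -/
def C0 (w : G) : Subgroup G := closure {x | x * x = 1 ∧ Commute x w}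

/-- `P` is a Sylow `p`-subgroup (elementary abelian of order `q`) of `C0 w`. -/
structure UF (p q : ℕ) (w : G) (P : Subgroup G) : Prop where
  card : Nat.card P = q
  exp : ∀ z ∈ P, z ^ p = 1
  comm : ∀ a ∈ P, ∀ b ∈ P, Commute a b
  le : P ≤ C0 w
  cen : ∀ z ∈ P, z ≠ 1 → ∀ g ∈ C0 w, Commute g z → g ∈ P ∨ w * g ∈ P

/-- The facts about `C(w) = (⟨w⟩ × PSL₂(q)) . m`. -/
structure HF (p q r s m : ℕ) (w : G) : Prop where
  card : Nat.card (centralizer ({w} : Set G)) = 8 * q * r * s * m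
  card0 : Nat.card (C0 w) = 8 * q * r * s
  cyc : ∃ g, Commute g w ∧ ∀ x, Commute x w → ∃ i : ℕ, x * (g ^ i)⁻¹ ∈ C0 w
  pair : ∃ j, IsPair w j
  t2 : ∀ x ∈ C0 w, x ^ s = 1 → x ≠ 1 →
    Nat.card (C0 w ⊓ centralizer ({x} : Set G) : Subgroup G) = 2 * s ∧
      ∃ j, j * j = 1 ∧ Commute j w ∧ j * x * j⁻¹ = x⁻¹
  t3 : ∀ z ∈ C0 w, z ^ p = 1 → ∃ P, UF p q w P ∧ z ∈ P
  par : ∀ P, UF p q w P → ∀ g ∈ C0 w, g ∉ normalizer (P : Set G) → ∃ c ∈ P, IsPair w (c * g)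
  nrm : ∀ P, UF p q w P →
    Nat.card (C0 w ⊓ normalizer (P : Set G) : Subgroup G) = q * (q - 1)
  dia : ∀ P, UF p q w P → ∃ τ ∈ C0 w, τ ∈ normalizer (P : Set G) ∧ 2 * orderOf τ + 1 = q
  nc : ∀ l : ℕ, l.Prime → l ≠ 2 → l ≠ p → ∀ Y : Subgroup G, Y ≤ C0 w → (∀ y ∈ Y, y ^ l = 1) →
    Nat.card Y ≤ l
  fix : ∀ P, UF p q w P → ∀ (g : G) (k : ℕ), Commute g w → g ∈ normalizer (P : Set G) →
    P ⊓ centralizer ({g} : Set G) ≠ ⊥ → (∀ i : ℕ, g ^ i ∈ C0 w ↔ k ∣ i) →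
    Nat.card (P ⊓ centralizer ({g} : Set G) : Subgroup G) ^ k = q
  lang : ∀ g, Commute g w → g ∉ C0 w → (orderOf g).Prime →
    ∃ P, UF p q w P ∧ g ∈ normalizer (P : Set G) ∧ P ⊓ centralizer ({g} : Set G) ≠ ⊥

/-- A group of Janko-Ree type whose involution centralisers involve field automorphisms of order `m`. -/
structure TF (G : Type*) [Group G] (p q r s m : ℕ) : Prop where
  pp : p.Prime
  qpow : ∃ f, q = p ^ f ∧ m ∣ f
  rodd : Odd r
  r3 : 3 ≤ r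
  modd : Odd m
  eps : (q = 4 * r + 1 ∧ s = 2 * r + 1) ∨ (q + 1 = 4 * r ∧ s + 1 = 2 * r)
  ex : ∃ t : G, Inv t
  four : ∀ x : G, x ^ 4 = 1 → x ^ 2 = 1
  one : ∀ a b : G, Inv a → Inv b → IsConj a b
  hf : ∀ w : G, Inv w → HF p q r s m w

theorem mem_C0 {w x : G} (h : x * x = 1) (hc : Commute x w) : x ∈ C0 w := subset_closure ⟨h, hc⟩

theorem C0_le (w : G) : C0 w ≤ centralizer {w} :=
  (closure_le _).2 fun _ hx => mem_cent.2 hx.2

theorem C0_comm {w x : G} (h : x ∈ C0 w) : Commute x w := mem_cent.1 (C0_le w h)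

theorem self_mem_C0 {w : G} (h : Inv w) : w ∈ C0 w := mem_C0 h.1 (Commute.refl w)

theorem conj_mem_C0 {w x : G} (h : x ∈ C0 w) (g : G) : g * x * g⁻¹ ∈ C0 (g * w * g⁻¹) := by
  refine closure_induction (fun y hy => mem_C0 ?_ (comm_conj hy.2 g)) ?_ ?_ ?_ h
  · rw [conj_mul, hy.1]; simp
  · simp
  · intro a b _ _ ha hb
    rw [← conj_mul]; exact mul_mem ha hb
  · intro a _ ha
    rw [← conj_inv]; exact inv_mem ha

theorem cj_C0 (g w : G) : cj g (C0 w) = C0 (g * w * g⁻¹) := by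
  ext x
  rw [mem_cj]
  constructor
  · intro h
    simpa [mul_assoc] using conj_mem_C0 h g
  · intro h
    simpa [mul_assoc] using conj_mem_C0 h g⁻¹

theorem norm_C0 {w g : G} (h : Commute g w) : g ∈ normalizer (C0 w : Set G) := by
  rw [mem_normalizer_iff_cj, cj_C0, comm_iff_conj.1 h]

theorem conj_mem_C0' {w x g : G} (hg : Commute g w) (h : x ∈ C0 w) : g * x * g⁻¹ ∈ C0 w :=
  conj_mem_of_mem_normalizer (norm_C0 hg) h

end H44.JF
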